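import Cfsg.Agent.H2.Fi23C.Basic

/-!
The kernel of S3233: an element moving `z` into its centraliser normalises `W`.
-/

set_option autoImplicit false

namespace H40.Fi23C

open H2.Fi23C

variable {G : Type*} [Group G] [Finite G] {F : Type*} [Field F] [Fintype F] {z a b c : G}
  {J K₀ : Subgroup G} {π : ↥K₀ →* Cfsg.PSp 2 F}

section

variable (S : Setup4 z a b c J K₀ π)

include S

omit [Finite G] in
theorem comm_z {g : G} (hg : g ∈ K₀) : Commute g z :=
  Subgroup.mem_centralizer_singleton_iff.mp (S.le_cent hg)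

omit [Finite G] in
theorem isA_mem {e : G} (he : IsA a b e) : e ∈ J := by
  rcases he with rfl | rfl | rfl
  · exact S.a_mem
  · exact S.b_mem
  · exact mul_mem S.a_mem S.b_mem

omit [Finite G] in
theorem isA_sq {e : G} (he : IsA a b e) : e * e = 1 := by
  rcases he with rfl | rfl | rfl
  · exact S.a_sq
  · exact S.b_sq
  · rw [mul_assoc, ← mul_assoc b a b, ← S.ab_comm.eq, mul_assoc a b b, S.b_sq, mul_one, S.a_sq]

omit [Finite G] in
theorem isA_z {e : G} (he : IsA a b e) : Commute e z := comm_z S (S.J_le (isA_mem S he))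

omit [Finite G] [Field F] [Fintype F] S in
theorem isA_of_inW {w : G} (h : InW a b w) (h1 : w ≠ 1) : IsA a b w := by
  rcases h with h | h | h | h
  · exact absurd h h1
  · exact Or.inl h
  · exact Or.inr (Or.inl h)
  · exact Or.inr (Or.inr h)

omit [Finite G] in
/-- Two different involutions of `W` and their product are all three. -/
theorem isA_cover {e e₁ q : G} (he : IsA a b e) (h₁ : IsA a b e₁) (hq : IsA a b q) (hne : e ≠ e₁) :
    q = e ∨ q = e₁ ∨ q = e * e₁ := by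
  have hba : b * a = a * b := S.ab_comm.eq.symm
  have p1 : a * (a * b) = b := by rw [← mul_assoc, S.a_sq, one_mul]
  have p2 : b * (a * b) = a := by rw [← mul_assoc, hba, mul_assoc, S.b_sq, mul_one]
  have p3 : a * b * a = b := by rw [mul_assoc, hba, p1]
  have p4 : a * b * b = a := by rw [mul_assoc, S.b_sq, mul_one]
  rcases he with rfl | rfl | rfl <;> rcases h₁ with rfl | rfl | rfl <;>
    rcases hq with rfl | rfl | rfl <;> simp_all

omit [Finite G] in
theorem inW_mul {p q : G} (hp : InW a b p) (hq : InW a b q) : InW a b (p * q) := by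
  have hba : b * a = a * b := S.ab_comm.eq.symm
  have p1 : a * (a * b) = b := by rw [← mul_assoc, S.a_sq, one_mul]
  have p2 : b * (a * b) = a := by rw [← mul_assoc, hba, mul_assoc, S.b_sq, mul_one]
  have p3 : a * b * a = b := by rw [mul_assoc, hba, p1]
  have p4 : a * b * b = a := by rw [mul_assoc, S.b_sq, mul_one]
  have p5 : a * b * (a * b) = 1 := isA_sq S (Or.inr (Or.inr rfl))
  rcases hp with rfl | rfl | rfl | rfl <;> rcases hq with rfl | rfl | rfl | rfl <;>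
    simp [InW, S.a_sq, S.b_sq, hba, p1, p2, p3, p4, p5]

omit [Finite G] in
/-- The centre of the core has eight elements. -/
theorem exists_zs : ∃ Zs : Subgroup G, Nat.card Zs = 8 ∧ ∀ w ∈ Zs, Commute w z ∧ w * w = 1 ∧
    (w = 1 ∨ w = z ∨ IsA a b w ∨ IsA a b (w * z)) := by
  have za : Commute a z := comm_z S (S.J_le S.a_mem)
  have zb : Commute b z := comm_z S (S.J_le S.b_mem)
  have red : ∀ (t : G), t * t = 1 → ∀ (i j : ZMod 2),
      t ^ (i + j).val = t ^ i.val * t ^ j.val := by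
    intro t ht i j
    rw [← pow_add, ZMod.val_add, ← pow_eq_pow_mod]
    rw [pow_two, ht]
  let φ : Multiplicative (ZMod 2 × ZMod 2 × ZMod 2) →* G := MonoidHom.mk'
    (fun v => a ^ v.toAdd.1.val * b ^ v.toAdd.2.1.val * z ^ v.toAdd.2.2.val)
    (by
      intro u v
      simp only [toAdd_mul, Prod.fst_add, Prod.snd_add, red a S.a_sq, red b S.b_sq, red z S.sq]
      have c1 : Commute (a ^ v.toAdd.1.val) (b ^ u.toAdd.2.1.val) := (S.ab_comm).pow_pow _ _
      have c2 : Commute (a ^ v.toAdd.1.val) (z ^ u.toAdd.2.2.val) := za.pow_pow _ _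
      have c3 : Commute (b ^ v.toAdd.2.1.val) (z ^ u.toAdd.2.2.val) := zb.pow_pow _ _
      simp only [mul_assoc]
      rw [c1.left_comm, c3.left_comm, c2.left_comm])
  have abne : a * b ≠ 1 := fun h => S.b_ne.2.2.1 (by
    rw [← one_mul b, ← S.a_sq, mul_assoc, h, mul_one])
  have zne : ∀ t : G, t * z = 1 → t = z := fun t h => by
    rw [← mul_one t, ← S.sq, ← mul_assoc, h, one_mul]
  have hinj : Function.Injective φ := by
    refine (injective_iff_map_eq_one φ).mpr fun v hv => ?_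
    obtain ⟨⟨i, j, l⟩, rfl⟩ := Multiplicative.ofAdd.surjective v
    change a ^ i.val * b ^ j.val * z ^ l.val = 1 at hv
    fin_cases i <;> fin_cases j <;> fin_cases l <;>
      simp [ZMod.val] at hv ⊢
    all_goals
      first
      | rfl
      | exact (S.ne_one hv).elim
      | exact (S.b_ne.1 hv).elim
      | exact (S.a_ne.1 hv).elim
      | exact (abne hv).elim
      | exact (S.b_ne.2.1 (zne _ hv)).elim
      | exact (S.a_ne.2 (zne _ hv)).elim
      | exact (S.ab_ne (zne _ hv)).elim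
  refine ⟨φ.range, ?_, ?_⟩
  · rw [← Nat.card_congr (MonoidHom.ofInjective hinj).toEquiv, Nat.card_eq_fintype_card]
    rfl
  · rintro w ⟨v, rfl⟩
    obtain ⟨⟨i, j, l⟩, rfl⟩ := Multiplicative.ofAdd.surjective v
    refine ⟨?_, ?_, ?_⟩
    · exact ((za.pow_left _).mul_left (zb.pow_left _)).mul_left ((Commute.refl z).pow_left _)
    · rw [← map_mul, ← map_one φ]
      congr 1
      revert i j l
      decide
    · change (a ^ i.val * b ^ j.val * z ^ l.val = 1 ∨ a ^ i.val * b ^ j.val * z ^ l.val = z ∨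
        IsA a b (a ^ i.val * b ^ j.val * z ^ l.val) ∨
        IsA a b (a ^ i.val * b ^ j.val * z ^ l.val * z))
      fin_cases i <;> fin_cases j <;> fin_cases l <;>
        simp [ZMod.val, IsA, mul_assoc, S.sq]

omit [Finite G] in
/-- A conjugate of `z` inside the centraliser of `z` and commuting elements give elements of `C(z)`. -/
theorem norm_of_comm {k g : G} (hg : Commute g (k * z * k⁻¹)) : NormW a b (k⁻¹ * g * k) := by
  refine S.conj_W _ (Subgroup.mem_centralizer_singleton_iff.mpr ?_)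
  calc k⁻¹ * g * k * z = k⁻¹ * (g * (k * z * k⁻¹)) * k := by group
    _ = k⁻¹ * ((k * z * k⁻¹) * g) * k := by rw [hg.eq]
    _ = z * (k⁻¹ * g * k) := by group

variable (F4 : Facts4 z a b J K₀) (T : Fusion4 z a b J)

include T

omit [Finite G] in
theorem rebase_z {k : G} (hk : Bad z a b k) : ∃ k' e, IsA a b e ∧ Bad z a b k' ∧
    k' * z * k'⁻¹ = k * z * k⁻¹ ∧ Commute (k' * e * k'⁻¹) z ∧
      centJ J (k' * z * k'⁻¹) ⊆ centJ J (k' * e * k'⁻¹) := by
  obtain ⟨k', e, he, hk', hA, ⟨q', hq', hqe⟩, -, hs⟩ := T.rebase k z (Or.inl rfl) hk hk.1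
  have hc : IsConj z q' := isConj_iff.mpr ⟨k'⁻¹ * k, by
    calc k'⁻¹ * k * z * (k'⁻¹ * k)⁻¹ = k'⁻¹ * (k * z * k⁻¹) * k' := by group
      _ = q' := by rw [← hqe]; group⟩
  rcases hq' with rfl | rfl | rfl
  · exact ⟨k', e, he, hk', hqe, hA, hqe ▸ hs⟩
  · exact absurd hc (T.z_a _ he)
  · exact absurd hc (T.z_d _ he)

omit [Finite G] in
theorem rebase_a {k e : G} (he : IsA a b e) (hk : Bad z a b k) (hA : Commute (k * e * k⁻¹) z) :
    ∃ k' e', IsA a b e' ∧ Bad z a b k' ∧ k' * e' * k'⁻¹ = k * e * k⁻¹ ∧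
      centJ J (k * e * k⁻¹) ⊆ centJ J (k' * z * k'⁻¹) := by
  obtain ⟨k', e', he', hk', -, ⟨q', hq', hqe⟩, hs, -⟩ :=
    T.rebase k e (Or.inr (Or.inl he)) hk hA
  have hc : IsConj e q' := isConj_iff.mpr ⟨k'⁻¹ * k, by
    calc k'⁻¹ * k * e * (k'⁻¹ * k)⁻¹ = k'⁻¹ * (k * e * k⁻¹) * k' := by group
      _ = q' := by rw [← hqe]; group⟩
  rcases hq' with rfl | rfl | rfl
  · exact absurd hc.symm (T.z_a _ he)
  · exact ⟨k', _, he', hk', hqe, hs⟩
  · exact absurd hc (T.a_d _ _ he he')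

omit [Finite G] in
theorem rebase_d {k e : G} (he : IsA a b e) (hk : Bad z a b k)
    (hd : Commute (k * (e * z) * k⁻¹) z) :
    ∃ k', Bad z a b k' ∧ centJ J (k * (e * z) * k⁻¹) ⊆ centJ J (k' * z * k'⁻¹) := by
  obtain ⟨k', e', -, hk', -, -, hs, -⟩ := T.rebase k (e * z)
    (Or.inr (Or.inr (by rwa [mul_assoc, S.sq, mul_one]))) hk hd
  exact ⟨k', hk', hs⟩

include F4

/-- With the image of `z` in `K₀` the three images have the same 128 centralised elements. -/
theorem key {k e : G} (he : IsA a b e) (hk : Bad z a b k) (hA : Commute (k * e * k⁻¹) z)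
    (hsub : centJ J (k * z * k⁻¹) ⊆ centJ J (k * e * k⁻¹)) (hx : k * z * k⁻¹ ∈ K₀) :
    (fixJ z a b J (k * z * k⁻¹)).ncard = 16 * 8 ∧
    (k * e * k⁻¹ ∈ K₀ ∧ (fixJ z a b J (k * e * k⁻¹)).ncard = 16 * 8 ∧
      centJ J (k * e * k⁻¹) = centJ J (k * z * k⁻¹)) ∧
    (k * (e * z) * k⁻¹ ∈ K₀ ∧ (fixJ z a b J (k * (e * z) * k⁻¹)).ncard = 16 * 8 ∧
      centJ J (k * (e * z) * k⁻¹) = centJ J (k * z * k⁻¹)) := by
  obtain ⟨x, hxd⟩ : ∃ x, k * z * k⁻¹ = x := ⟨_, rfl⟩
  obtain ⟨A, hAd⟩ : ∃ A, k * e * k⁻¹ = A := ⟨_, rfl⟩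
  obtain ⟨d, hdd⟩ : ∃ d, k * (e * z) * k⁻¹ = d := ⟨_, rfl⟩
  have hxx : x * x = 1 := by
    rw [← hxd]
    calc k * z * k⁻¹ * (k * z * k⁻¹) = k * (z * z) * k⁻¹ := by group
      _ = 1 := by rw [S.sq]; group
  have hAA : A * A = 1 := by
    rw [← hAd]
    calc k * e * k⁻¹ * (k * e * k⁻¹) = k * (e * e) * k⁻¹ := by group
      _ = 1 := by rw [isA_sq S he]; group
  have hdx : d = A * x := by rw [← hdd, ← hAd, ← hxd]; group
  have hAx : Commute A x := by
    rw [← hAd, ← hxd]; exact (isA_z S he).map (MulAut.conj k).toMonoidHom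
  have hxJ : x ∉ J := hxd ▸ T.bad_z k hk
  have hAJ : A ∉ J := hAd ▸ T.bad_a k e he hk
  have hdJ : d ∉ J := hdd ▸ T.bad_d k e he hk
  have hdsub : centJ J d ⊆ centJ J x := hdd ▸ hxd ▸ T.dead k e he hk.1 hA
  rw [hxd, hAd] at hsub
  rw [hxd] at hx
  rw [hxd, hAd, hdd]
  rw [hAd] at hA
  have hAK : A ∈ K₀ := F4.parity x hx hxx hxJ A (Subgroup.mem_centralizer_singleton_iff.mpr hA.eq)
    hAA hsub
  have hdK : d ∈ K₀ := hdx ▸ mul_mem hAK hx
  have hdd' : d * d = 1 := by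
    rw [hdx, mul_assoc, ← mul_assoc x, ← hAx.eq, mul_assoc A x x, hxx, mul_one, hAA]
  have hx16 : (fixJ z a b J x).ncard = 16 * 8 := (F4.fix x hx hxx hxJ).resolve_right fun h => by
    have := F4.big x hx hxx hxJ h A hAK hAJ hsub
    rw [← hAx.eq, ← hdx] at this
    exact hdJ this
  have hd16 : (fixJ z a b J d).ncard = 16 * 8 := (F4.fix d hdK hdd' hdJ).resolve_right fun h => by
    have := F4.big d hdK hdd' hdJ h A hAK hAJ (hdsub.trans hsub)
    rw [hdx, mul_assoc, ← hAx.eq, ← mul_assoc, hAA, one_mul] at this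
    exact hxJ this
  have hA16 : (fixJ z a b J A).ncard = 16 * 8 := (F4.fix A hAK hAA hAJ).resolve_right fun h => by
    obtain ⟨k', e', he', hk', hA', hs⟩ := rebase_a S T he hk (hAd ▸ hA)
    rw [hAd] at hs hA'
    have hyy : k' * z * k'⁻¹ * (k' * z * k'⁻¹) = 1 := by
      calc _ = k' * (z * z) * k'⁻¹ := by group
        _ = 1 := by rw [S.sq]; group
    have hy : k' * z * k'⁻¹ ∈ K₀ := F4.parity A hAK hAA hAJ _
      (Subgroup.mem_centralizer_singleton_iff.mpr hk'.1.eq) hyy hs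
    have := F4.big A hAK hAA hAJ h _ hy (T.bad_z k' hk') hs
    rw [← hA', show k' * e' * k'⁻¹ * (k' * z * k'⁻¹) = k' * (e' * z) * k'⁻¹ by group] at this
    exact T.bad_d k' e' he' hk' this
  have cf : ∀ t ∈ K₀, t * t = 1 → t ∉ J → (fixJ z a b J t).ncard = 16 * 8 →
      (centJ J t).ncard = 16 * 8 := by
    intro t ht ht2 htJ h
    rw [← h]
    refine congrArg Set.ncard (Set.Subset.antisymm ?_ fun p hp =>
      ⟨hp.1, F4.comm16 t ht ht2 htJ h p hp⟩)
    exact fun p hp => ⟨hp.1, Or.inl (Or.inl (by rw [hp.2.eq]; group))⟩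
  have hcx := cf x hx hxx hxJ hx16
  refine ⟨hx16, ⟨hAK, hA16, ?_⟩, hdK, hd16, ?_⟩
  · exact (Set.eq_of_subset_of_ncard_le hsub
      (by rw [cf A hAK hAA hAJ hA16, hcx]) (Set.toFinite _)).symm
  · exact Set.eq_of_subset_of_ncard_le hdsub
      (by rw [cf d hdK hdd' hdJ hd16, hcx]) (Set.toFinite _)

/-- The image of `z` cannot lie in `K₀`. -/
theorem not_mem_K₀ {k : G} (hk : Bad z a b k) : k * z * k⁻¹ ∉ K₀ := by
  intro hx0
  obtain ⟨k, e, he, hk, hkx, hA, hsub⟩ := rebase_z S T hk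
  rw [← hkx] at hx0
  obtain ⟨hx16, ⟨hAK, hA16, hAe⟩, hdK, hd16, -⟩ := key S F4 T he hk hA hsub hx0
  have hxx : k * z * k⁻¹ * (k * z * k⁻¹) = 1 := by
    calc _ = k * (z * z) * k⁻¹ := by group
      _ = 1 := by rw [S.sq]; group
  have hAA : k * e * k⁻¹ * (k * e * k⁻¹) = 1 := by
    calc _ = k * (e * e) * k⁻¹ := by group
      _ = 1 := by rw [isA_sq S he]; group
  have hxA : k * z * k⁻¹ * (k * e * k⁻¹) = k * (e * z) * k⁻¹ := by
    rw [(isA_z S he).eq]; group
  obtain ⟨g, hgK, hgx, hgA⟩ := F4.line _ hx0 _ hAK hxx hAA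
    ((isA_z S he).symm.map (MulAut.conj k).toMonoidHom) (T.bad_z k hk) (T.bad_a k e he hk)
    (hxA ▸ T.bad_d k e he hk) hx16 hA16 (hxA ▸ hd16) hsub
  obtain ⟨e₁, he₁d⟩ : ∃ e₁, k⁻¹ * g * k * e * (k⁻¹ * g * k)⁻¹ = e₁ := ⟨_, rfl⟩
  have hne1 : e ≠ 1 := fun h => hgA (by rw [h, mul_one, mul_inv_cancel]; exact Commute.one_right g)
  have he₁ : IsA a b e₁ := by
    refine isA_of_inW (he₁d ▸ norm_of_comm S hgx e ?_) fun h => hne1 ?_
    · rcases he with h | h | h
      · exact Or.inr (Or.inl h)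
      · exact Or.inr (Or.inr (Or.inl h))
      · exact Or.inr (Or.inr (Or.inr h))
    · rw [← he₁d] at h
      exact (conj_eq_one_iff).mp h
  have hne : e ≠ e₁ := fun h => hgA (mul_inv_eq_iff_eq_mul.mp (by
    calc g * (k * e * k⁻¹) * g⁻¹ = k * (k⁻¹ * g * k * e * (k⁻¹ * g * k)⁻¹) * k⁻¹ := by group
      _ = k * e * k⁻¹ := by rw [he₁d, ← h]))
  have hA₁ : Commute (k * e₁ * k⁻¹) z := by
    rw [← he₁d, show k * (k⁻¹ * g * k * e * (k⁻¹ * g * k)⁻¹) * k⁻¹ = g * (k * e * k⁻¹) * g⁻¹ by group]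
    exact ((comm_z S hgK).mul_left hA).mul_left (comm_z S hgK).inv_left
  have hcent : ∀ q, IsA a b q → Commute (k * q * k⁻¹) z := by
    intro q hq
    rcases isA_cover S he he₁ hq hne with rfl | rfl | rfl
    · exact hA
    · exact hA₁
    · rw [show k * (e * e₁) * k⁻¹ = k * e * k⁻¹ * (k * e₁ * k⁻¹) by group]
      exact hA.mul_left hA₁
  have hall : ∀ q, IsA a b q → centJ J (k * z * k⁻¹) ⊆ centJ J (k * q * k⁻¹) := by
    intro q hq p hp
    refine ⟨hp.1, ?_⟩
    have hn := norm_of_comm S hp.2.symm q (by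
      rcases hq with h | h | h
      · exact Or.inr (Or.inl h)
      · exact Or.inr (Or.inr (Or.inl h))
      · exact Or.inr (Or.inr (Or.inr h)))
    have hq' : InW a b q := by
      rcases hq with h | h | h
      · exact Or.inr (Or.inl h)
      · exact Or.inr (Or.inr (Or.inl h))
      · exact Or.inr (Or.inr (Or.inr h))
    by_contra hne
    have hw := inW_mul S hn hq'
    have hmem : k * q * k⁻¹ * p * (k * q * k⁻¹)⁻¹ ∈ J :=
      S.conj_mem _ (Subgroup.mem_centralizer_singleton_iff.mpr (hcent q hq).eq) _ hp.1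
    have hval : k * (k⁻¹ * p * k * q * (k⁻¹ * p * k)⁻¹ * q) * k⁻¹ =
        p * (k * q * k⁻¹ * p * (k * q * k⁻¹)⁻¹)⁻¹ := by
      calc k * (k⁻¹ * p * k * q * (k⁻¹ * p * k)⁻¹ * q) * k⁻¹
          = p * (k * q * k⁻¹) * p⁻¹ * (k * q * k⁻¹) := by group
        _ = p * (k * q * k⁻¹ * p * (k * q * k⁻¹)⁻¹)⁻¹ := by
            have : (k * q * k⁻¹)⁻¹ = k * q * k⁻¹ := by
              rw [inv_eq_iff_mul_eq_one]
              calc _ = k * (q * q) * k⁻¹ := by group
                _ = 1 := by rw [isA_sq S hq]; group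
            generalize k * q * k⁻¹ = X at this ⊢
            rw [mul_inv_rev, mul_inv_rev, inv_inv, this]
            simp only [mul_assoc]
    refine T.bad_a k _ (isA_of_inW hw ?_) hk (hval ▸ mul_mem hp.1 (inv_mem hmem))
    intro h1
    rw [h1, mul_one, mul_inv_cancel] at hval
    apply hne
    have := mul_inv_eq_one.mp hval.symm
    exact (eq_mul_inv_iff_mul_eq.mp this).symm
  -- the image of the centre of the core
  have img : ∀ w, w = z ∨ IsA a b w ∨ IsA a b (w * z) →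
      k * w * k⁻¹ ∈ K₀ ∧ k * w * k⁻¹ ∉ J ∧ (fixJ z a b J (k * w * k⁻¹)).ncard = 16 * 8 ∧
        centJ J (k * w * k⁻¹) = centJ J (k * z * k⁻¹) := by
    rintro w (rfl | hw | hw)
    · exact ⟨hx0, T.bad_z k hk, hx16, rfl⟩
    · obtain ⟨-, ⟨h1, h2, h3⟩, -⟩ := key S F4 T hw hk (hcent _ hw) (hall _ hw) hx0
      exact ⟨h1, T.bad_a k w hw hk, h2, h3⟩
    · obtain ⟨-, -, h1, h2, h3⟩ := key S F4 T hw hk (hcent _ hw) (hall _ hw) hx0
      have hbd := T.bad_d k _ hw hk
      rw [mul_assoc w z z, S.sq, mul_one] at h1 h2 h3 hbd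
      exact ⟨h1, hbd, h2, h3⟩
  obtain ⟨Zs, hZc, hZ⟩ := exists_zs S
  refine F4.eight (Zs.map (MulAut.conj k).toMonoidHom) ?_ ?_ ?_ ?_ ?_ ?_
  · rintro _ ⟨w, hw, rfl⟩
    show k * w * k⁻¹ ∈ K₀
    rcases (hZ w hw).2.2 with rfl | h
    · simp
    · exact (img w h).1
  · rw [Subgroup.card_map_of_injective (MulAut.conj k).injective, hZc]
  · rintro _ ⟨w, hw, rfl⟩
    rw [← map_mul, (hZ w hw).2.1, map_one]
  · rintro _ ⟨w, hw, rfl⟩ hJ
    rcases (hZ w hw).2.2 with rfl | h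
    · simp
    · exact absurd hJ (img w h).2.1
  · rintro _ ⟨w, hw, rfl⟩ hne1
    rcases (hZ w hw).2.2 with rfl | h
    · exact absurd (map_one _) hne1
    · exact (img w h).2.2.1
  · rintro _ ⟨w, hw, rfl⟩ hw1 _ ⟨w', hw', rfl⟩ hw1'
    rcases (hZ w hw).2.2 with rfl | h
    · exact absurd (map_one _) hw1
    rcases (hZ w' hw').2.2 with rfl | h'
    · exact absurd (map_one _) hw1'
    exact (img w h).2.2.2.trans (img w' h').2.2.2.symm

end

universe u v

theorem kernel : KernelStmt.{u, v} := by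
  intro G _ _ F _ _ z a b c J K₀ π S F4 T k hk
  by_contra hn
  obtain ⟨k, e, he, hbad, -, hA, -⟩ := rebase_z S T ⟨hk, hn⟩
  have hx : k * z * k⁻¹ ∉ K₀ := not_mem_K₀ S F4 T hbad
  have hxC : k * z * k⁻¹ ∈ Subgroup.centralizer ({z} : Set G) :=
    Subgroup.mem_centralizer_singleton_iff.mpr hbad.1.eq
  have hAC : k * e * k⁻¹ ∈ Subgroup.centralizer ({z} : Set G) :=
    Subgroup.mem_centralizer_singleton_iff.mpr hA.eq
  have hxx : k * z * k⁻¹ * (k * z * k⁻¹) = 1 := by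
    calc _ = k * (z * z) * k⁻¹ := by group
      _ = 1 := by rw [S.sq]; group
  have hAA : k * e * k⁻¹ * (k * e * k⁻¹) = 1 := by
    calc _ = k * (e * e) * k⁻¹ := by group
      _ = 1 := by rw [isA_sq S he]; group
  have hd : k * e * k⁻¹ * (k * z * k⁻¹) = k * (e * z) * k⁻¹ := by group
  have hAx : Commute (k * e * k⁻¹) (k * z * k⁻¹) :=
    (isA_z S he).map (MulAut.conj k).toMonoidHom
  have hdd : k * (e * z) * k⁻¹ * (k * (e * z) * k⁻¹) = 1 := by
    calc _ = k * (e * (z * e) * z) * k⁻¹ := by group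
      _ = k * (e * e * (z * z)) * k⁻¹ := by rw [← (isA_z S he).eq]; group
      _ = 1 := by rw [isA_sq S he, S.sq]; group
  have par : ∀ t ∈ K₀, t * t = 1 → t ∉ J → ∀ k', Bad z a b k' →
      centJ J t ⊆ centJ J (k' * z * k'⁻¹) → False := by
    intro t ht ht2 htJ k' hk' hs
    refine not_mem_K₀ S F4 T hk' (F4.parity t ht ht2 htJ _
      (Subgroup.mem_centralizer_singleton_iff.mpr hk'.1.eq) ?_ hs)
    calc _ = k' * (z * z) * k'⁻¹ := by group
      _ = 1 := by rw [S.sq]; group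
  by_cases hAK : k * e * k⁻¹ ∈ K₀
  · obtain ⟨k', -, -, hk', -, hs⟩ := rebase_a S T he hbad hA
    exact par _ hAK hAA (T.bad_a k e he hbad) k' hk' hs
  have hdK : k * (e * z) * k⁻¹ ∈ K₀ := hd ▸ F4.out_mul _ hAC _ hxC hAA hxx hAx hAK hx
  obtain ⟨k', hk', hs⟩ := rebase_d S T he hbad (hd ▸ hA.mul_left hbad.1)
  exact par _ hdK hdd (T.bad_d k e he hbad) k' hk' hs

end H40.Fi23C
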